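import Groth.Agent.Lib.Deform6.Chart
import Groth.Agent.Lib.FSchSys.Descent
import Groth.Agent.Lib.ClosedBC6.Main
import Groth.Prelude.Def_MoreMor
import Mathlib.AlgebraicGeometry.Morphisms.Smooth
import Mathlib.AlgebraicGeometry.Morphisms.Etale
import Mathlib.AlgebraicGeometry.Morphisms.FinitePresentation
import Mathlib.AlgebraicGeometry.Morphisms.Immersion

/-!
# Properties of morphisms detected on thickenings
-/

universe u

open CategoryTheory Limits AlgebraicGeometry
open scoped TensorProduct

namespace GrothLib.Deform6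

variable {X X' Y Y' S S' : Scheme.{u}} {iX : X ⟶ X'} {iY : Y ⟶ Y'} {iS : S ⟶ S'}
  {f : X ⟶ Y} {f' : X' ⟶ Y'} {g : Y ⟶ S} {g' : Y' ⟶ S'}

theorem formallyUnramified_of_isNilpotent [IsClosedImmersion iY] (h : IsNilpotent iY.ker)
    (hc : IsPullback iX f f' iY) [FormallyUnramified f] : FormallyUnramified f' := by
  rw [HasRingHomProperty.iff_exists_appLE (P := @FormallyUnramified)
    (RingHom.FormallyUnramified.stableUnderComposition.stableUnderCompositionWithLocalizationAway
      RingHom.FormallyUnramified.holdsForLocalizationAway).1]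
  intro x
  obtain ⟨-, W, V, hxV, -, e⟩ := exists_chart f' (𝟙 Y') x
  refine ⟨W, V, hxV, e, ?_⟩
  let := (f'.appLE W V e).hom.toAlgebra
  let := (iY.app W).hom.toAlgebra
  have : Algebra.FormallyUnramified Γ(Y, iY ⁻¹ᵁ W) (Γ(Y, iY ⁻¹ᵁ W) ⊗[Γ(Y', W)] Γ(X', V)) :=
    RingHom.formallyUnramified_algebraMap.mp
      (includeLeft_of_appLE hc (P := @FormallyUnramified) ‹_› W.2 V.2 e)
  exact RingHom.formallyUnramified_algebraMap.mpr
    (formallyUnramified_of_nilpotent (D := Γ(Y, iY ⁻¹ᵁ W)) (iY.app_surjective W W.2)
      (iY.ker_apply W ▸ isNilpotent_ideal h W))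

theorem formallyUnramified_of_lft [IsClosedImmersion iY] [Surjective iY] [LocallyOfFiniteType f']
    (hc : IsPullback iX f f' iY) [FormallyUnramified f] : FormallyUnramified f' := by
  rw [HasRingHomProperty.iff_exists_appLE (P := @FormallyUnramified)
    (RingHom.FormallyUnramified.stableUnderComposition.stableUnderCompositionWithLocalizationAway
      RingHom.FormallyUnramified.holdsForLocalizationAway).1]
  intro x
  obtain ⟨-, W, V, hxV, -, e⟩ := exists_chart f' (𝟙 Y') x
  refine ⟨W, V, hxV, e, ?_⟩
  have hft := f'.finiteType_appLE W.2 V.2 e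
  let := (f'.appLE W V e).hom.toAlgebra
  let := (iY.app W).hom.toAlgebra
  have : Algebra.FiniteType Γ(Y', W) Γ(X', V) := hft
  have : Algebra.FormallyUnramified Γ(Y, iY ⁻¹ᵁ W) (Γ(Y, iY ⁻¹ᵁ W) ⊗[Γ(Y', W)] Γ(X', V)) :=
    RingHom.formallyUnramified_algebraMap.mp
      (includeLeft_of_appLE hc (P := @FormallyUnramified) ‹_› W.2 V.2 e)
  exact RingHom.formallyUnramified_algebraMap.mpr
    (formallyUnramified_of_finiteType (D := Γ(Y, iY ⁻¹ᵁ W)) (iY.app_surjective W W.2)
      (iY.ker_apply W ▸ Thickening.le_nilradical_of_thickening iY W))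

theorem mono_of_isNilpotent [IsClosedImmersion iY] (h : IsNilpotent iY.ker)
    (hc : IsPullback iX f f' iY) [Mono f] : Mono f' := by
  have : FormallyUnramified f := inferInstance
  have := formallyUnramified_of_isNilpotent h hc
  refine ⟨fun a b hab => ?_⟩
  let i := pullback.fst (a ≫ f') iY
  have hi : IsNilpotent i.ker :=
    isNilpotent_ker_of_isPullback (IsPullback.of_hasPullback (a ≫ f') iY) h
  refine FormallyUnramified.hom_ext i hi f' ?_ hab
  let a₀ := hc.lift (i ≫ a) (pullback.snd (a ≫ f') iY) (by rw [Category.assoc, pullback.condition])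
  let b₀ := hc.lift (i ≫ b) (pullback.snd (a ≫ f') iY)
    (by rw [Category.assoc, ← hab, pullback.condition])
  have : a₀ = b₀ := by rw [← cancel_mono f]; simp [a₀, b₀]
  simpa [a₀, b₀] using congr($this ≫ iX)

theorem mono_of_lft [IsClosedImmersion iY] [Surjective iY] [LocallyOfFiniteType f']
    (hc : IsPullback iX f f' iY) [Mono f] : Mono f' := by
  have : IsClosedImmersion iX := MorphismProperty.of_isPullback hc.flip ‹_›
  have : Surjective iX := MorphismProperty.of_isPullback hc.flip ‹_›
  have : FormallyUnramified f := inferInstance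
  have := formallyUnramified_of_lft hc
  have : UniversallyInjective f := inferInstance
  have : UniversallyInjective f' := by
    rw [← Thickening.universallyInjective_comp_iff iX f', hc.w]
    infer_instance
  have : Surjective (pullback.diagonal f') :=
    (UniversallyInjective.iff_diagonal f').mp ‹_›
  have : IsIso (pullback.diagonal f') :=
    (isIso_iff_isOpenImmersion_and_surjective _).mpr ⟨inferInstance, inferInstance⟩
  exact (pullback.isIso_diagonal_iff f').mp inferInstance

theorem isImmersion_of_lft [IsClosedImmersion iY] [Surjective iY] [LocallyOfFiniteType f']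
    (hc : IsPullback iX f f' iY) [IsImmersion f] : IsImmersion f' := by
  have : IsClosedImmersion iX := MorphismProperty.of_isPullback hc.flip ‹_›
  have : Surjective iX := MorphismProperty.of_isPullback hc.flip ‹_›
  have hr : Set.range f' = iY '' Set.range f := by
    rw [← Set.range_comp, ← TopCat.coe_comp, ← Scheme.Hom.comp_base, ← hc.w, Scheme.Hom.comp_base,
      TopCat.coe_comp, Set.range_comp, Set.range_eq_univ.mpr iX.surjective, Set.image_univ]
  have hlc : IsLocallyClosed (Set.range f') := by
    rw [hr]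
    exact f.isLocallyClosed_range.image iY.isClosedEmbedding.isEmbedding.isInducing
      (by rw [Set.range_eq_univ.mpr iY.surjective]; exact isClosed_univ.isLocallyClosed)
  let W : Y'.Opens := ⟨coborder (Set.range f'), hlc.isOpen_coborder⟩
  have hW : Set.range f' ⊆ Set.range W.ι := by rw [W.range_ι]; exact subset_coborder
  let u := IsOpenImmersion.lift W.ι f' hW
  have hu : u ≫ W.ι = f' := IsOpenImmersion.lift_fac _ _ _
  have hcl : IsClosed (Set.range u) := by
    have hru : Set.range u = W.ι ⁻¹' Set.range f' := by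
      rw [← hu, Scheme.Hom.comp_base, TopCat.coe_comp, Set.range_comp,
        Set.preimage_image_eq _ W.ι.isOpenEmbedding.injective]
    rw [hru]
    exact isClosed_preimage_val_coborder
  have : LocallyOfFiniteType u := by
    have : LocallyOfFiniteType (u ≫ W.ι) := by rwa [hu]
    exact locallyOfFiniteType_of_comp u W.ι
  let j := pullback.fst W.ι iY
  have : IsClosedImmersion j := MorphismProperty.pullback_fst _ _ ‹_›
  have : Surjective j := MorphismProperty.pullback_fst _ _ ‹_›
  have h1 := (IsPullback.of_hasPullback u j).paste_vert (IsPullback.of_hasPullback W.ι iY)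
  rw [hu] at h1
  have : IsImmersion (pullback.snd u j ≫ pullback.snd W.ι iY) := by
    rw [← h1.isoIsPullback_hom_snd _ _ hc]
    infer_instance
  have : IsImmersion (pullback.snd u j) := IsImmersion.of_comp _ (pullback.snd W.ι iY)
  have : IsClosedImmersion (pullback.snd u j) := by
    refine IsClosedImmersion.of_isPreimmersion _ ?_
    rw [Scheme.Pullback.range_snd]
    exact hcl.preimage j.continuous
  have := ClosedBC6.isClosedImmersion_of_baseChange u j
  rw [← hu]
  infer_instance

theorem flat_of_deform [IsClosedImmersion iS] (hS : IsNilpotent iS.ker)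
    (hcY : IsPullback iY g g' iS) (hc : IsPullback iX f f' iY) [Flat (f' ≫ g')] [Flat f] :
    Flat f' := by
  have : IsClosedImmersion iY := MorphismProperty.of_isPullback hcY.flip ‹_›
  rw [HasRingHomProperty.iff_exists_appLE (P := @Flat)
    (RingHom.Flat.stableUnderComposition.stableUnderCompositionWithLocalizationAway
      RingHom.Flat.holdsForLocalizationAway).1]
  intro x
  obtain ⟨U, W, V, hxV, hWU, e⟩ := exists_chart f' g' x
  refine ⟨W, V, hxV, e, ?_⟩
  have hflat := Flat.flat_appLE (f' ≫ g') U.2 V.2 (e.trans (f'.preimage_mono hWU))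
  rw [← Scheme.Hom.appLE_comp_appLE _ _ U.1 W.1 V.1 hWU e, CommRingCat.hom_comp] at hflat
  let := (f'.appLE W V e).hom.toAlgebra
  let := (iY.app W).hom.toAlgebra
  let := (g'.appLE U W hWU).hom.toAlgebra
  let := ((f'.appLE W V e).hom.comp (g'.appLE U W hWU).hom).toAlgebra
  have : IsScalarTower Γ(S', U) Γ(Y', W) Γ(X', V) := .of_algebraMap_eq fun _ => rfl
  have : Module.Flat Γ(S', U) Γ(X', V) := hflat
  have : Module.Flat Γ(Y, iY ⁻¹ᵁ W) (Γ(Y, iY ⁻¹ᵁ W) ⊗[Γ(Y', W)] Γ(X', V)) :=
    RingHom.flat_algebraMap_iff.mp (includeLeft_of_appLE hc (P := @Flat) ‹_› W.2 V.2 e)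
  exact RingHom.flat_algebraMap_iff.mpr
    (flat_of_nilpotent (D := Γ(Y, iY ⁻¹ᵁ W)) (iY.app_surjective W W.2) (isNilpotent_ideal hS U)
      (ker_app_eq hcY U W hWU))

theorem locallyOfFinitePresentation_of_deform [IsClosedImmersion iS] (hS : IsNilpotent iS.ker)
    (hcY : IsPullback iY g g' iS) (hc : IsPullback iX f f' iY) [Flat (f' ≫ g')]
    [LocallyOfFinitePresentation f] : LocallyOfFinitePresentation f' := by
  have : IsClosedImmersion iY := MorphismProperty.of_isPullback hcY.flip ‹_›
  have : LocallyOfFiniteType f' := FSchSys.locallyOfFiniteType_of_isPullback hc fun W => by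
    obtain ⟨k, hk⟩ := isNilpotent_ideal (isNilpotent_ker_of_isPullback hcY hS) W
    exact ⟨k, hk⟩
  rw [HasRingHomProperty.iff_exists_appLE (P := @LocallyOfFinitePresentation)
    (RingHom.finitePresentation_stableUnderComposition.stableUnderCompositionWithLocalizationAway
      RingHom.finitePresentation_holdsForLocalizationAway).1]
  intro x
  obtain ⟨U, W, V, hxV, hWU, e⟩ := exists_chart f' g' x
  refine ⟨W, V, hxV, e, ?_⟩
  have hft := f'.finiteType_appLE W.2 V.2 e
  have hflat := Flat.flat_appLE (f' ≫ g') U.2 V.2 (e.trans (f'.preimage_mono hWU))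
  rw [← Scheme.Hom.appLE_comp_appLE _ _ U.1 W.1 V.1 hWU e, CommRingCat.hom_comp] at hflat
  let := (f'.appLE W V e).hom.toAlgebra
  let := (iY.app W).hom.toAlgebra
  let := (g'.appLE U W hWU).hom.toAlgebra
  let := ((f'.appLE W V e).hom.comp (g'.appLE U W hWU).hom).toAlgebra
  have : IsScalarTower Γ(S', U) Γ(Y', W) Γ(X', V) := .of_algebraMap_eq fun _ => rfl
  have : Module.Flat Γ(S', U) Γ(X', V) := hflat
  have : Algebra.FiniteType Γ(Y', W) Γ(X', V) := hft
  have : Algebra.FinitePresentation Γ(Y, iY ⁻¹ᵁ W) (Γ(Y, iY ⁻¹ᵁ W) ⊗[Γ(Y', W)] Γ(X', V)) :=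
    RingHom.finitePresentation_algebraMap.mp
      (includeLeft_of_appLE hc (P := @LocallyOfFinitePresentation) ‹_› W.2 V.2 e)
  exact RingHom.finitePresentation_algebraMap.mpr
    (finitePresentation_of_nilpotent (D := Γ(Y, iY ⁻¹ᵁ W)) (iY.app_surjective W W.2)
      (isNilpotent_ideal hS U) (ker_app_eq hcY U W hWU))

theorem smooth_of_flat [IsClosedImmersion iY] [Surjective iY] [Flat f']
    [LocallyOfFinitePresentation f'] (hc : IsPullback iX f f' iY) [Smooth f] : Smooth f' := by
  rw [HasRingHomProperty.iff_exists_appLE (P := @Smooth)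
    (RingHom.Smooth.stableUnderComposition.stableUnderCompositionWithLocalizationAway
      RingHom.Smooth.holdsForLocalizationAway).1]
  intro x
  obtain ⟨-, W, V, hxV, -, e⟩ := exists_chart f' (𝟙 Y') x
  refine ⟨W, V, hxV, e, ?_⟩
  have hfl := Flat.flat_appLE f' W.2 V.2 e
  have hfp := f'.finitePresentation_appLE W.2 V.2 e
  let := (f'.appLE W V e).hom.toAlgebra
  let := (iY.app W).hom.toAlgebra
  have : Module.Flat Γ(Y', W) Γ(X', V) := hfl
  have : Algebra.FinitePresentation Γ(Y', W) Γ(X', V) := hfp
  have : Algebra.Smooth Γ(Y, iY ⁻¹ᵁ W) (Γ(Y, iY ⁻¹ᵁ W) ⊗[Γ(Y', W)] Γ(X', V)) :=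
    RingHom.smooth_algebraMap.mp (includeLeft_of_appLE hc (P := @Smooth) ‹_› W.2 V.2 e)
  exact RingHom.smooth_algebraMap.mpr
    (smooth_of_nil (D := Γ(Y, iY ⁻¹ᵁ W)) (iY.app_surjective W W.2)
      (iY.ker_apply W ▸ Thickening.le_nilradical_of_thickening iY W))

theorem smooth_of_deform [IsClosedImmersion iS] [Surjective iS] (hS : IsNilpotent iS.ker)
    (hcY : IsPullback iY g g' iS) (hc : IsPullback iX f f' iY) [Flat (f' ≫ g')] [Smooth f] :
    Smooth f' := by
  have : IsClosedImmersion iY := MorphismProperty.of_isPullback hcY.flip ‹_›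
  have : Surjective iY := MorphismProperty.of_isPullback hcY.flip ‹_›
  have := flat_of_deform hS hcY hc
  have := locallyOfFinitePresentation_of_deform hS hcY hc
  exact smooth_of_flat hc

theorem etale_of_deform [IsClosedImmersion iS] [Surjective iS] (hS : IsNilpotent iS.ker)
    (hcY : IsPullback iY g g' iS) (hc : IsPullback iX f f' iY) [Flat (f' ≫ g')] [Etale f] :
    Etale f' := by
  have : IsClosedImmersion iY := MorphismProperty.of_isPullback hcY.flip ‹_›
  have := flat_of_deform hS hcY hc
  have := locallyOfFinitePresentation_of_deform hS hcY hc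
  have := formallyUnramified_of_isNilpotent (isNilpotent_ker_of_isPullback hcY hS) hc
  exact Etale.of_formallyUnramified_of_flat f'

theorem isFinite_of_deform [IsClosedImmersion iS] [Surjective iS] (hS : IsNilpotent iS.ker)
    (hcY : IsPullback iY g g' iS) (hc : IsPullback iX f f' iY) [IsFinite f] : IsFinite f' := by
  have : IsClosedImmersion iY := MorphismProperty.of_isPullback hcY.flip ‹_›
  have : Surjective iY := MorphismProperty.of_isPullback hcY.flip ‹_›
  exact FSchSys.isFinite_of_isPullback hc fun W => by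
    obtain ⟨k, hk⟩ := isNilpotent_ideal (isNilpotent_ker_of_isPullback hcY hS) W
    exact ⟨k, hk⟩

/-- Properties of the base change along a thickening of the base hold on all fibres over it. -/
theorem prop_fibre {P : MorphismProperty Scheme.{u}} [P.IsStableUnderBaseChange]
    [IsClosedImmersion iS] [Surjective iS] (hcY : IsPullback iY g g' iS)
    (hc : IsPullback iX f f' iY) (hf : P f) (s' : S') :
    P (pullback.snd f' (g'.fiberι s')) := by
  obtain ⟨s, rfl⟩ := iS.surjective s'
  have : IsIso (iS.residueFieldMap s) := by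
    have hs : Function.Surjective (iS.residueFieldMap s) := fun x => by
      obtain ⟨x, rfl⟩ := S.residue_surjective s x
      obtain ⟨y, rfl⟩ := iS.stalkMap_surjective s x
      exact ⟨S'.residue (iS s) y, by
        rw [← ConcreteCategory.comp_apply, Scheme.residue_residueFieldMap]
        rfl⟩
    exact (ConcreteCategory.isIso_iff_bijective _).mpr ⟨RingHom.injective _, hs⟩
  let j : g'.fiber (iS s) ⟶ Y := hcY.lift (g'.fiberι (iS s))
    (g'.fiberToSpecResidueField (iS s) ≫ inv (Spec.map (iS.residueFieldMap s)) ≫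
      S.fromSpecResidueField s) (by
      simp only [Category.assoc]
      rw [← Scheme.Hom.SpecMap_residueFieldMap_fromSpecResidueField, IsIso.inv_hom_id_assoc]
      exact pullback.condition)
  have hj : j ≫ iY = g'.fiberι (iS s) := hcY.lift_fst _ _ _
  have := (IsPullback.of_hasPullback f j).paste_horiz hc
  rw [hj] at this
  rw [← this.isoPullback_inv_snd]
  exact (MorphismProperty.cancel_left_of_respectsIso P _ _).mpr (P.pullback_snd f j hf)

end GrothLib.Deform6
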