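import Groth.Agent.Lib.Deform6.Ring
import Groth.Agent.Lib.Pushout6.ClosedPair
import Groth.Agent.Lib.FSchSys.Ker
import Mathlib.AlgebraicGeometry.Morphisms.FormallyUnramified

/-!
# Affine charts of the base change along a closed immersion
-/

universe u

open CategoryTheory Limits AlgebraicGeometry
open scoped TensorProduct

namespace GrothLib.Deform6

variable {X X' Y Y' : Scheme.{u}} {iX : X ⟶ X'} {iY : Y ⟶ Y'} {f : X ⟶ Y} {f' : X' ⟶ Y'}

/-- A property of the base change gives one of the tensor product on affine charts. -/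
theorem includeLeft_of_appLE [IsClosedImmersion iY] (hc : IsPullback iX f f' iY)
    {Q : ∀ {R S : Type u} [CommRing R] [CommRing S], (R →+* S) → Prop}
    {P : MorphismProperty Scheme.{u}} [HasRingHomProperty P Q] (hP : P f)
    {W : Y'.Opens} (hW : IsAffineOpen W) {V : X'.Opens} (hV : IsAffineOpen V) (e : V ≤ f' ⁻¹ᵁ W) :
    letI := (f'.appLE W V e).hom.toAlgebra
    letI := (iY.app W).hom.toAlgebra
    Q (Algebra.TensorProduct.includeLeftRingHom :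
      Γ(Y, iY ⁻¹ᵁ W) →+* Γ(Y, iY ⁻¹ᵁ W) ⊗[Γ(Y', W)] Γ(X', V)) := by
  have : IsClosedImmersion iX := MorphismProperty.of_isPullback hc.flip ‹_›
  have e₀ : iX ⁻¹ᵁ V ≤ f ⁻¹ᵁ (iY ⁻¹ᵁ W) := by
    rw [← Scheme.Hom.comp_preimage, ← hc.w, Scheme.Hom.comp_preimage]
    exact iX.preimage_mono e
  have hUY : iX ⁻¹ᵁ V = iX ⁻¹ᵁ V ⊓ f ⁻¹ᵁ (iY ⁻¹ᵁ W) := (inf_eq_left.mpr e₀).symm
  have hpo := (isIso_pushoutSection_iff hc (UT := iY ⁻¹ᵁ W) (UX := V) le_rfl e
      (UY := iX ⁻¹ᵁ V) hUY).mp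
    (isIso_pushoutSection_of_isAffineOpen hc le_rfl e hUY hW (hW.preimage iY) hV)
  rw [← Scheme.Hom.app_eq_appLE, ← Scheme.Hom.app_eq_appLE] at hpo
  letI := (f'.appLE W V e).hom.toAlgebra
  letI := (iY.app W).hom.toAlgebra
  exact Pushout6.prop_includeLeft (HasRingHomProperty.isLocal_ringHomProperty P).respectsIso
    hpo rfl rfl (HasRingHomProperty.appLE P f hP ⟨_, hW.preimage iY⟩ ⟨_, hV.preimage iX⟩ e₀)

variable {S S' : Scheme.{u}} {iS : S ⟶ S'} {g : Y ⟶ S} {g' : Y' ⟶ S'}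

/-- Affine charts subordinate to an affine open of the base. -/
theorem exists_chart (f' : X' ⟶ Y') (g' : Y' ⟶ S') (x : X') :
    ∃ (U : S'.affineOpens) (W : Y'.affineOpens) (V : X'.affineOpens),
      x ∈ V.1 ∧ W.1 ≤ g' ⁻¹ᵁ U.1 ∧ V.1 ≤ f' ⁻¹ᵁ W.1 := by
  obtain ⟨_, ⟨U, hU, rfl⟩, hxU, -⟩ := S'.isBasis_affineOpens.exists_subset_of_mem_open
    (Set.mem_univ (g' (f' x))) isOpen_univ
  obtain ⟨_, ⟨W, hW, rfl⟩, hxW, hWU⟩ := Y'.isBasis_affineOpens.exists_subset_of_mem_open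
    (show f' x ∈ g' ⁻¹ᵁ U from hxU) (g' ⁻¹ᵁ U).2
  obtain ⟨_, ⟨V, hV, rfl⟩, hxV, hVW⟩ := X'.isBasis_affineOpens.exists_subset_of_mem_open
    (show x ∈ f' ⁻¹ᵁ W from hxW) (f' ⁻¹ᵁ W).2
  exact ⟨⟨U, hU⟩, ⟨W, hW⟩, ⟨V, hV⟩, hxV, hWU, hVW⟩

/-- The kernel on a chart of the base change of a closed immersion. -/
theorem ker_app_eq [IsClosedImmersion iS] (hcY : IsPullback iY g g' iS) (U : S'.affineOpens)
    (W : Y'.affineOpens) (e : W.1 ≤ g' ⁻¹ᵁ U.1) :
    RingHom.ker (iY.app W).hom = (iS.ker.ideal U).map (g'.appLE U W e).hom := by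
  have : IsClosedImmersion iY := MorphismProperty.of_isPullback hcY.flip ‹_›
  rw [← iY.ker_apply W, FSchSys.ker_eq_comap_of_isPullback hcY, BlowUp.ideal_comap_eq_map _ g' U W e]

theorem isNilpotent_ideal {I : S'.IdealSheafData} (h : IsNilpotent I) (U : S'.affineOpens) :
    IsNilpotent (I.ideal U) := by
  obtain ⟨k, hk⟩ := h
  exact ⟨k, by simpa using congr($(congrArg Scheme.IdealSheafData.ideal hk) U)⟩

theorem isNilpotent_ker_of_isPullback [IsClosedImmersion iS] (hcY : IsPullback iY g g' iS)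
    (h : IsNilpotent iS.ker) : IsNilpotent iY.ker := by
  obtain ⟨k, hk⟩ := h
  refine ⟨k, ?_⟩
  rw [FSchSys.ker_eq_comap_of_isPullback hcY, ← FSchSys.comap_pow, hk]
  exact Scheme.IdealSheafData.comap_bot _

end GrothLib.Deform6
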