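import Groth.Agent.Lib.Pushout6.Joint
import Groth.Agent.Lib.Flatness.Criterion
import Mathlib.RingTheory.Nakayama
import Mathlib.RingTheory.Etale.Basic

/-!
# Properties of algebras detected modulo a nilpotent ideal of the base
-/

universe u

open scoped TensorProduct
open MvPolynomial (X C)

namespace GrothLib.Deform6

variable {A B D : Type u} [CommRing A] [CommRing B] [CommRing D] [Algebra A B] [Algebra A D]
  (hD : Function.Surjective (algebraMap A D))

include hD in
/-- Formal unramifiedness is detected modulo a nilpotent ideal. -/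
theorem formallyUnramified_of_nilpotent (hJ : IsNilpotent (RingHom.ker (algebraMap A D)))
    [Algebra.FormallyUnramified D (D ⊗[A] B)] : Algebra.FormallyUnramified A B := by
  refine ⟨subsingleton_of_forall_eq 0 fun x => ?_⟩
  obtain ⟨n, hn⟩ := hJ
  have h : ∀ k, (⊤ : Submodule A (Ω[B⁄A])) ≤ RingHom.ker (algebraMap A D) ^ k • ⊤ := by
    intro k
    induction k with
    | zero => simp
    | succ k ih =>
      rw [pow_succ, Submodule.mul_smul]
      exact ih.trans (Submodule.smul_mono le_rfl fun y _ => Pushout6.Joint.kaehler_le_smul hD y)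
  simpa [hn] using h n (Submodule.mem_top (x := x))

include hD in
/-- Formal unramifiedness of algebras of finite type is detected modulo a nil ideal. -/
theorem formallyUnramified_of_finiteType (hJ : RingHom.ker (algebraMap A D) ≤ nilradical A)
    [Algebra.FiniteType A B] [Algebra.FormallyUnramified D (D ⊗[A] B)] :
    Algebra.FormallyUnramified A B := by
  refine ⟨subsingleton_of_forall_eq 0 fun x => ?_⟩
  let J := RingHom.ker (algebraMap A D)
  have hle : (⊤ : Submodule B (Ω[B⁄A])) ≤ J.map (algebraMap A B) • ⊤ := fun y _ => by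
    refine Submodule.smul_induction_on (Pushout6.Joint.kaehler_le_smul hD y) (fun a ha z _ => ?_)
      (fun _ _ h₁ h₂ => add_mem h₁ h₂)
    rw [← algebraMap_smul B a z]
    exact Submodule.smul_mem_smul (Ideal.mem_map_of_mem _ ha) trivial
  have hjac : J.map (algebraMap A B) ≤ Ideal.jacobson ⊥ := by
    refine le_trans ?_ (Ideal.radical_le_jacobson (I := (⊥ : Ideal B)))
    rw [Ideal.map_le_iff_le_comap]
    exact fun a ha => show IsNilpotent (algebraMap A B a) from (mem_nilradical.mp (hJ ha)).map _
  have := Submodule.eq_bot_of_le_smul_of_le_jacobson_bot (J.map (algebraMap A B)) ⊤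
    Module.Finite.fg_top hle hjac
  exact (Submodule.mem_bot B).mp (this ▸ Submodule.mem_top)

include hD in
/-- Base change of flatness to the quotient by the kernel. -/
theorem flat_quotient [Module.Flat D (D ⊗[A] B)] :
    Module.Flat (A ⧸ RingHom.ker (algebraMap A D)) ((A ⧸ RingHom.ker (algebraMap A D)) ⊗[A] B) := by
  let e : (A ⧸ RingHom.ker (algebraMap A D)) ≃ₐ[A] D :=
    Ideal.quotientKerAlgEquivOfSurjective (f := Algebra.ofId A D) hD
  let := e.symm.toAlgHom.toRingHom.toAlgebra
  have : IsScalarTower A D (A ⧸ RingHom.ker (algebraMap A D)) :=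
    .of_algebraMap_eq fun x => (e.symm.commutes x).symm
  exact Module.Flat.of_linearEquiv
    (TensorProduct.AlgebraTensorModule.cancelBaseChange A D (A ⧸ RingHom.ker (algebraMap A D))
      (A ⧸ RingHom.ker (algebraMap A D)) B).symm

section Tower

variable {R : Type u} [CommRing R] [Algebra R A] [Algebra R B] [IsScalarTower R A B] {J : Ideal R}

/-- If `B` is flat over `R`, then `JA ⊗ B → B` is injective. -/
theorem injective_lTensor_map [Module.Flat R B] :
    Function.Injective ((J.map (algebraMap R A)).subtype.lTensor B) := by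
  let I := J.map (algebraMap R A)
  let ι : J →ₗ[R] I :=
    { toFun := fun j => ⟨algebraMap R A j, Ideal.mem_map_of_mem _ j.2⟩
      map_add' := fun x y => Subtype.ext (map_add _ _ _)
      map_smul' := fun r x => Subtype.ext (by simp [Algebra.smul_def]) }
  let q : B ⊗[R] J →ₗ[R] B ⊗[A] I :=
    TensorProduct.lift <| LinearMap.mk₂ R (fun b j => b ⊗ₜ[A] ι j)
      (fun _ _ _ => TensorProduct.add_tmul _ _ _)
      (fun r b j => by rw [TensorProduct.smul_tmul'])
      (fun b j k => by rw [map_add, TensorProduct.tmul_add])
      (fun r b j => by rw [map_smul, TensorProduct.tmul_smul])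
  have hq : Function.Surjective q := by
    intro t
    induction t with
    | zero => exact ⟨0, map_zero q⟩
    | add x y hx hy =>
      obtain ⟨a, rfl⟩ := hx
      obtain ⟨b, rfl⟩ := hy
      exact ⟨a + b, map_add q a b⟩
    | tmul b x =>
      obtain ⟨x, hx⟩ := x
      induction hx using Submodule.span_induction generalizing b with
      | mem x hx =>
        obtain ⟨j, hj, rfl⟩ := hx
        exact ⟨b ⊗ₜ ⟨j, hj⟩, rfl⟩
      | zero => exact ⟨0, by rw [map_zero]; exact (TensorProduct.tmul_zero I b).symm⟩
      | add x y hx' hy' hx hy =>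
        obtain ⟨u, hu⟩ := hx b
        obtain ⟨v, hv⟩ := hy b
        exact ⟨u + v, by rw [map_add, hu, hv, ← TensorProduct.tmul_add]; rfl⟩
      | smul a x hx' hx =>
        obtain ⟨u, hu⟩ := hx (a • b)
        exact ⟨u, by rw [hu, TensorProduct.smul_tmul]; rfl⟩
  have hinj : Function.Injective (J.subtype.lTensor B) :=
    Module.Flat.lTensor_preserves_injective_linearMap J.subtype J.injective_subtype
  have hcomm : ∀ t, TensorProduct.rid A B (I.subtype.lTensor B (q t)) =
      TensorProduct.rid R B (J.subtype.lTensor B t) := by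
    intro t
    induction t with
    | zero => simp
    | add x y hx hy => simp only [map_add, hx, hy]
    | tmul b j =>
      show algebraMap R A j • b = (j : R) • b
      rw [algebraMap_smul]
  refine (injective_iff_map_eq_zero _).mpr fun t ht => ?_
  obtain ⟨s, rfl⟩ := hq t
  have h0 := hcomm s
  rw [ht, map_zero] at h0
  have : s = 0 := hinj <| (TensorProduct.rid R B).injective (by rw [← h0, map_zero, map_zero])
  rw [this, map_zero]

include hD in
/-- Flatness is detected modulo a nilpotent ideal of a base over which the algebra is flat. -/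
theorem flat_of_nilpotent [Module.Flat R B] (hJ : IsNilpotent J)
    (hker : RingHom.ker (algebraMap A D) = J.map (algebraMap R A)) [Module.Flat D (D ⊗[A] B)] :
    Module.Flat A B := by
  refine GrothLib.Flatness.flat_of_isNilpotent (RingHom.ker (algebraMap A D)) ?_ ?_ (flat_quotient hD)
  · rw [hker]
    exact hJ.map (Ideal.mapHom (algebraMap R A))
  · rw [hker]
    exact injective_lTensor_map

end Tower

section Kernel

variable {R : Type u} [CommRing R] {M S : Type u} [AddCommGroup M] [Module R M] [AddCommGroup S]
  [Module R S]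

/-- If the quotient is flat, then `JM ∩ ker = J ker`. -/
theorem mem_smul_ker [Module.Flat R S] (π : M →ₗ[R] S) (hπ : Function.Surjective π) {J : Ideal R}
    {m : M} (hm : π m = 0) (hJ : m ∈ J • (⊤ : Submodule R M)) : m ∈ J • LinearMap.ker π := by
  let μ : J ⊗[R] M →ₗ[R] M := (TensorProduct.lid R M).toLinearMap ∘ₗ J.subtype.rTensor M
  let ν : J ⊗[R] S →ₗ[R] S := (TensorProduct.lid R S).toLinearMap ∘ₗ J.subtype.rTensor S
  have hμν : ν ∘ₗ π.lTensor J = π ∘ₗ μ := TensorProduct.ext' fun j y => by simp [μ, ν]
  have hν : Function.Injective ν :=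
    (TensorProduct.lid R S).injective.comp
      (Module.Flat.rTensor_preserves_injective_linearMap J.subtype J.injective_subtype)
  obtain ⟨t, rfl⟩ : ∃ t, μ t = m :=
    Submodule.smul_induction_on hJ (fun r hr x _ => ⟨⟨r, hr⟩ ⊗ₜ x, by simp [μ]⟩) fun x y => by
      rintro ⟨a, rfl⟩ ⟨b, rfl⟩
      exact ⟨a + b, map_add _ _ _⟩
  have h0 : π.lTensor J t = 0 := hν (by rw [← LinearMap.comp_apply, hμν, map_zero]; exact hm)
  obtain ⟨t', rfl⟩ := (lTensor_exact J (LinearMap.exact_subtype_ker_map π) hπ t).mp h0
  clear hm hJ h0
  induction t' with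
  | zero => simp
  | tmul r y =>
    rw [show μ ((LinearMap.ker π).subtype.lTensor J (r ⊗ₜ y)) = (r : R) • (y : M) by simp [μ]]
    exact Submodule.smul_mem_smul r.2 y.2
  | add x y hx hy => rw [map_add, map_add]; exact add_mem hx hy

end Kernel

section FP

variable {R : Type u} [CommRing R] [Algebra R A] [Algebra R B] [IsScalarTower R A B] {J : Ideal R}

include hD in
/-- Finite presentation is detected modulo a nilpotent ideal of a base over which the algebra is flat. -/
theorem finitePresentation_of_nilpotent [Module.Flat R B] (hJ : IsNilpotent J)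
    (hker : RingHom.ker (algebraMap A D) = J.map (algebraMap R A)) [Algebra.FiniteType A B]
    [Algebra.FinitePresentation D (D ⊗[A] B)] : Algebra.FinitePresentation A B := by
  obtain ⟨n, π, hπ⟩ := Algebra.FiniteType.iff_quotient_mvPolynomial''.mp ‹Algebra.FiniteType A B›
  obtain ⟨K₀, hK₀, hle, heq⟩ := Pushout6.Joint.exists_fg_map_eq π hπ D hD
  let K := RingHom.ker π.toRingHom
  let J' : Ideal (MvPolynomial (Fin n) A) := (J.map (algebraMap R A)).map C
  have hstep : K ≤ K₀ ⊔ J' * K := by
    intro m hm
    obtain ⟨k, hk, hke⟩ := (Ideal.mem_map_iff_of_surjective (MvPolynomial.map (algebraMap A D))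
      (MvPolynomial.map_surjective _ hD)).mp (heq (Ideal.mem_map_of_mem _ hm))
    rw [← sub_add_cancel m k, add_comm]
    refine Submodule.add_mem_sup hk ?_
    have hJ' : m - k ∈ J' := by
      show m - k ∈ Ideal.map C (J.map (algebraMap R A))
      rw [← hker, ← MvPolynomial.ker_map]
      show MvPolynomial.map (algebraMap A D) (m - k) = 0
      rw [map_sub, hke, sub_self]
    have hJm : m - k ∈ J • (⊤ : Submodule R (MvPolynomial (Fin n) A)) := by
      rw [Ideal.smul_top_eq_map, Submodule.restrictScalars_mem]
      show m - k ∈ J.map (algebraMap R (MvPolynomial (Fin n) A))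
      rwa [IsScalarTower.algebraMap_eq R A, ← Ideal.map_map]
    have h0 : (π.restrictScalars R).toLinearMap (m - k) = 0 := by
      show π (m - k) = 0
      rw [map_sub, show π m = 0 from hm, show π k = 0 from hle hk, sub_zero]
    refine Submodule.smul_induction_on (mem_smul_ker (π.restrictScalars R).toLinearMap hπ h0 hJm)
      (fun r hr y hy => ?_) (fun _ _ h₁ h₂ => add_mem h₁ h₂)
    rw [Algebra.smul_def, IsScalarTower.algebraMap_apply R A (MvPolynomial (Fin n) A)]
    exact Ideal.mul_mem_mul (Ideal.mem_map_of_mem _ (Ideal.mem_map_of_mem _ hr)) hy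
  have hpow : ∀ e : ℕ, K ≤ K₀ ⊔ J' ^ e * K := by
    intro e
    induction e with
    | zero => simp
    | succ e ih =>
      refine ih.trans (sup_le le_sup_left ?_)
      refine (Ideal.mul_mono_right hstep).trans ?_
      rw [Ideal.mul_sup, ← mul_assoc, ← pow_succ]
      exact sup_le_sup_right Ideal.mul_le_right _
  obtain ⟨e, he⟩ := hJ
  have hK : K ≤ K₀ := by
    refine (hpow e).trans (le_of_eq ?_)
    simp only [J']
    rw [← Ideal.map_pow, ← Ideal.map_pow, he]
    simp
  exact Algebra.FinitePresentation.of_surjective hπ (by rwa [show RingHom.ker π.toRingHom = K₀ from le_antisymm hK hle])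

end FP

include hD in
/-- Smoothness of flat algebras of finite presentation is detected modulo a nil ideal. -/
theorem smooth_of_nil (hJ : RingHom.ker (algebraMap A D) ≤ nilradical A) [Module.Flat A B]
    [Algebra.FinitePresentation A B] [Algebra.FormallySmooth D (D ⊗[A] B)] : Algebra.Smooth A B :=
  Algebra.Smooth.of_formallySmooth_fiber fun I _ =>
    Pushout6.Joint.formallySmooth_fiber hD I (hJ.trans (nilradical_le_prime I))

end GrothLib.Deform6
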